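import Groth.Agent.DiagTorLib.CutDim
import Groth.Agent.FibDimLib.FibreJumps
import Groth.Agent.FibDimLib.Comps
import Groth.Prelude.Def_RegImm

/-!
# Dimension criteria for proper intersection
-/

set_option autoImplicit false

universe u

open CategoryTheory CategoryTheory.Limits AlgebraicGeometry TopologicalSpace Topology

namespace CharCycDimLib

theorem add_le_iff {x : WithBot ℕ∞} {c n : ℕ} (hc : c ≤ n) :
    x + (c : WithBot ℕ∞) ≤ n ↔ x ≤ ((n - c : ℕ) : WithBot ℕ∞) := by
  induction x using WithBot.recBotCoe with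
  | bot => simp
  | coe a =>
    induction a using ENat.recTopCoe with
    | top =>
      constructor
      · intro h
        have h' := WithBot.coe_le_coe.mp (show ((⊤ + (c : ℕ∞) : ℕ∞) : WithBot ℕ∞) ≤ ((n : ℕ∞) : WithBot ℕ∞) from h)
        simp at h'
      · intro h
        have h' := WithBot.coe_le_coe.mp (show ((⊤ : ℕ∞) : WithBot ℕ∞) ≤ (((n - c : ℕ) : ℕ∞) : WithBot ℕ∞) from h)
        simp at h'
    | coe a =>
      show ((a : ℕ) : WithBot ℕ∞) + (c : WithBot ℕ∞) ≤ n ↔ ((a : ℕ) : WithBot ℕ∞) ≤ ((n - c : ℕ) : WithBot ℕ∞)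
      norm_cast
      omega

theorem eq_bot_of_add_le {x : WithBot ℕ∞} {c n : ℕ} (hc : n < c) (h : x + (c : WithBot ℕ∞) ≤ n) : x = ⊥ := by
  induction x using WithBot.recBotCoe with
  | bot => rfl
  | coe a =>
    have h' := WithBot.coe_le_coe.mp (show ((a + (c : ℕ∞) : ℕ∞) : WithBot ℕ∞) ≤ ((n : ℕ∞) : WithBot ℕ∞) from h)
    have h'' : (c : ℕ∞) ≤ (n : ℕ∞) := le_trans le_add_self h'
    exact absurd (Nat.cast_le.mp h'') (by omega)

theorem isEmpty_of_dim_eq_bot {A : Type*} [TopologicalSpace A] (h : topologicalKrullDim A = ⊥) : IsEmpty A := by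
  rcases isEmpty_or_nonempty A with hA | hA
  · exact hA
  · haveI : Nonempty (IrreducibleCloseds A) :=
      hA.map fun a => ⟨closure {a}, isIrreducible_singleton.closure, isClosed_closure⟩
    exact absurd (h ▸ Order.krullDim_nonneg : (0 : WithBot ℕ∞) ≤ ⊥) (by simp)

theorem dim_eq_bot (A : Type*) [TopologicalSpace A] [hA : IsEmpty A] : topologicalKrullDim A = ⊥ := by
  haveI : IsEmpty (IrreducibleCloseds A) := ⟨fun s => hA.false s.isIrreducible'.nonempty.choose⟩
  exact Order.krullDim_eq_bot

variable (k : Type u) [Field k] {C X W : Scheme.{u}}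
variable (q : X ⟶ Spec (CommRingCat.of k)) (π : C ⟶ X) (ι : W ⟶ X)
variable [LocallyOfFiniteType q] [LocallyOfFiniteType π]
variable (κ : RegImm.Kind) (n c : ℕ)

/-- The preimage of the range of an immersion, as a scheme. -/
theorem dim_pullback [IsImmersion ι] :
    topologicalKrullDim (pullback π ι : Scheme.{u}) = topologicalKrullDim (π ⁻¹' Set.range ι : Set C) :=
  IsHomeomorph.topologicalKrullDim_eq _
    ((pullback.fst π ι).isEmbedding.toHomeomorph.trans
      (Homeomorph.setCongr (Scheme.Pullback.range_fst π ι))).isHomeomorph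

include q in
/-- Each component of the trace on a component of the preimage of a regular immersion has the expected dimension
as soon as the whole preimage is small enough. -/
theorem component_dim_eq (hι : RegImm.IsRegularImmersionOfCodim κ c ι)
    (hC : ∀ P ∈ irreducibleComponents (C : Type u), topologicalKrullDim P = n)
    (h : topologicalKrullDim (π ⁻¹' Set.range ι : Set C) + (c : WithBot ℕ∞) ≤ n)
    {P : Set C} (hP : P ∈ irreducibleComponents (C : Type u))
    {Q : Set (P ∩ π ⁻¹' Set.range ι : Set C)}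
    (hQ : Q ∈ irreducibleComponents (P ∩ π ⁻¹' Set.range ι : Set C)) :
    topologicalKrullDim Q + (c : WithBot ℕ∞) = n := by
  haveI : IsImmersion ι := hι.1
  haveI : IsLocallyNoetherian X := LocallyOfFiniteType.isLocallyNoetherian q
  have hPc : IsClosed P := isClosed_of_mem_irreducibleComponents P hP
  refine le_antisymm (le_trans (add_le_add ?_ le_rfl) h) ?_
  · let r : Q → (π ⁻¹' Set.range ι : Set C) := fun y => ⟨y.1.1, y.1.2.2⟩
    have hr : IsInducing r := IsInducing.of_comp (g := Subtype.val) (by fun_prop) continuous_subtype_val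
      (IsInducing.subtypeVal.comp IsInducing.subtypeVal : IsInducing fun y : Q => (y.1.1 : C))
    exact hr.topologicalKrullDim_le
  -- the generic point of the component
  let S₀ : Set C := Subtype.val '' Q
  have hS₀ : IsIrreducible S₀ := hQ.1.image _ continuous_subtype_val.continuousOn
  let ξ : C := hS₀.genericPoint
  have hξ : IsGenericPoint ξ (closure S₀) := hS₀.isGenericPoint_genericPoint_closure
  let V : Set C := π ⁻¹' coborder (Set.range ι)
  have hV : IsOpen V := ι.isLocallyClosed_range.isOpen_coborder.preimage π.continuous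
  obtain ⟨y₀, hy₀⟩ := hQ.1.nonempty
  have hξy : ξ ⤳ (y₀ : C) := hξ.specializes (subset_closure ⟨y₀, hy₀, rfl⟩)
  have hξV : ξ ∈ V := hξy.mem_open hV (subset_coborder y₀.2.2)
  have hclos : closure S₀ ⊆ P ∩ π ⁻¹' closure (Set.range ι) := by
    refine closure_minimal ?_ (hPc.inter (isClosed_closure.preimage π.continuous))
    rintro _ ⟨y, -, rfl⟩
    exact ⟨y.2.1, subset_closure y.2.2⟩
  have hξPT : ξ ∈ P ∩ π ⁻¹' Set.range ι :=
    ⟨(hclos hξ.mem).1,
      (closure_inter_coborder (s := Set.range ι)).subset (show π ξ ∈ closure (Set.range ι) ∩ coborder (Set.range ι) from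
        ⟨(hclos hξ.mem).2, hξV⟩)⟩
  let x : (P ∩ π ⁻¹' Set.range ι : Set C) := ⟨ξ, hξPT⟩
  have hQx : Q ⊆ closure {x} := fun y hy =>
    (IsInducing.subtypeVal.specializes_iff.mp
      (show (x : C) ⤳ (y : C) from hξ.specializes (subset_closure ⟨y, hy, rfl⟩))).mem_closure
  have hxQ : closure {x} ⊆ Q := hQ.2 isIrreducible_singleton.closure hQx
  -- the component as a scheme
  let I := Scheme.IdealSheafData.vanishingIdeal (⟨P, hPc⟩ : Closeds C)
  let j : I.subscheme ⟶ C := I.subschemeι
  have hj : Set.range j = P := by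
    rw [Scheme.IdealSheafData.range_subschemeι, Scheme.IdealSheafData.coe_support_vanishingIdeal]
    rfl
  let e : I.subscheme ≃ₜ P := j.isEmbedding.toHomeomorph.trans (Homeomorph.setCongr hj)
  haveI : IrreducibleSpace P := Subtype.irreducibleSpace hP.1
  haveI : IrreducibleSpace I.subscheme := e.symm.surjective.irreducibleSpace e.symm.continuous
  haveI : IsLocallyNoetherian I.subscheme := LocallyOfFiniteType.isLocallyNoetherian (j ≫ π)
  obtain ⟨x', hx'⟩ : ξ ∈ Set.range j := hj.symm ▸ hξPT.1
  have hn : FlatMor.localDim I.subscheme x' = n := by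
    rw [FibDimLib.localDim_of_irreducible (j ≫ π ≫ q) x', IsHomeomorph.topologicalKrullDim_eq _ e.isHomeomorph]
    exact hC P hP
  obtain ⟨w, hw⟩ := hξPT.2
  obtain ⟨U, hwU, hcl, rs, hlen, -, hker⟩ := hι.2 w
  have hst : ringKrullDim (I.subscheme.presheaf.stalk x') ≤ (c : WithBot ℕ∞) := by
    rw [← hlen]
    refine DiagTorLib.stalk_dim_le_of_max ι (j ≫ π) x' w ?_ U hwU hcl rs hker fun z' hz' hz'r => ?_
    · show π (j x') = ι w
      rw [hx', hw]
    · have hz'PT : j z' ∈ P ∩ π ⁻¹' Set.range ι := ⟨hj ▸ Set.mem_range_self z', hz'r⟩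
      let y : (P ∩ π ⁻¹' Set.range ι : Set C) := ⟨j z', hz'PT⟩
      have hyx : y ⤳ x := IsInducing.subtypeVal.specializes_iff.mp
        (show j z' ⤳ ξ from hx' ▸ hz'.map j.continuous)
      have hQy : Q ⊆ closure {y} := fun a ha =>
        (hyx.trans (specializes_iff_mem_closure.mpr (hQx ha))).mem_closure
      have hxy : x ⤳ y := specializes_iff_mem_closure.mpr
        (hQx (hQ.2 isIrreducible_singleton.closure hQy (subset_closure rfl)))
      exact j.isEmbedding.injective ((congrArg Subtype.val (hyx.antisymm hxy).eq).trans hx'.symm)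
  have hcl' : topologicalKrullDim (closure ({x'} : Set I.subscheme)) ≤ topologicalKrullDim Q := by
    haveI : LocallyOfFiniteType (Over.mk (j ≫ π ≫ q) : Over (Spec (CommRingCat.of k))).hom :=
      inferInstanceAs (LocallyOfFiniteType (j ≫ π ≫ q))
    let O : I.subscheme.Opens := ⟨(j ≫ π) ⁻¹' coborder (Set.range ι),
      ι.isLocallyClosed_range.isOpen_coborder.preimage (j ≫ π).continuous⟩
    have hx'O : x' ∈ O := by
      show π (j x') ∈ coborder (Set.range ι)
      rw [hx']
      exact hξV
    have hO := FibDimLib.topologicalKrullDim_closure_open (Over.mk (j ≫ π ≫ q)) O ⟨x', hx'O⟩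
    rw [← hO]
    have hmem : ∀ v : closure ({⟨x', hx'O⟩} : Set O),
        j v.1.1 ∈ P ∩ π ⁻¹' Set.range ι ∧ ξ ⤳ j v.1.1 := by
      intro v
      have hs : ξ ⤳ j v.1.1 :=
        hx' ▸ ((specializes_iff_mem_closure.mpr v.2).map continuous_subtype_val).map j.continuous
      refine ⟨⟨hj ▸ Set.mem_range_self _, (closure_inter_coborder (s := Set.range ι)).subset ⟨?_, v.1.2⟩⟩, hs⟩
      exact (hs.map π.continuous).mem_closed isClosed_closure (subset_closure hξPT.2)
    let r : closure ({⟨x', hx'O⟩} : Set O) → Q := fun v =>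
      ⟨⟨j v.1.1, (hmem v).1⟩, hxQ ((IsInducing.subtypeVal.specializes_iff.mp
        (show (x : C) ⤳ ((⟨j v.1.1, (hmem v).1⟩ : (P ∩ π ⁻¹' Set.range ι : Set C)) : C) from (hmem v).2)).mem_closure)⟩
    have hv : Continuous fun v : closure ({⟨x', hx'O⟩} : Set O) => v.1.1 :=
      O.isOpen.isOpenEmbedding_subtypeVal.continuous.comp continuous_subtype_val
    have hr : IsInducing r := IsInducing.of_comp (g := fun y : Q => (y.1.1 : C))
      (Continuous.subtype_mk (Continuous.subtype_mk (j.continuous.comp hv) _) _) (by fun_prop)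
      (j.isEmbedding.isInducing.comp (O.isOpen.isOpenEmbedding_subtypeVal.isInducing.comp
        (IsInducing.subtypeVal : IsInducing (Subtype.val : closure ({⟨x', hx'O⟩} : Set O) → O))) :
        IsInducing fun v : closure ({⟨x', hx'O⟩} : Set O) => j v.1.1)
    exact hr.topologicalKrullDim_le
  rw [← hn, FibDimLib.localDim_eq_closure_add_stalk (j ≫ π ≫ q) x']
  exact add_le_add hcl' hst

include q in
/-- First equivalence. -/
theorem forall_component_dim_eq_iff (hι : RegImm.IsRegularImmersionOfCodim κ c ι)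
    (hC : ∀ P ∈ irreducibleComponents (C : Type u), topologicalKrullDim P = n) :
    (∀ P ∈ irreducibleComponents (C : Type u), ∀ Q ∈ irreducibleComponents (P ∩ π ⁻¹' Set.range ι : Set C),
        topologicalKrullDim Q + (c : WithBot ℕ∞) = n) ↔
      topologicalKrullDim (π ⁻¹' Set.range ι : Set C) + (c : WithBot ℕ∞) ≤ n := by
  haveI : IsImmersion ι := hι.1
  refine ⟨fun h => ?_, fun h P hP Q hQ => component_dim_eq k q π ι κ n c hι hC h hP hQ⟩
  have hpt : ∀ z : (pullback π ι : Scheme.{u}),
      topologicalKrullDim (closure ({z} : Set (pullback π ι : Scheme.{u}))) + (c : WithBot ℕ∞) ≤ n := by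
    intro z
    set f := pullback.fst π ι
    have hmem : ∀ a : (pullback π ι : Scheme.{u}), f a ∈ π ⁻¹' Set.range ι := fun a =>
      (Scheme.Pullback.range_fst π ι).subset (Set.mem_range_self a)
    have hP := irreducibleComponent_mem_irreducibleComponents (f z)
    let x : (irreducibleComponent (f z) ∩ π ⁻¹' Set.range ι : Set C) := ⟨f z, mem_irreducibleComponent, hmem z⟩
    refine le_trans (add_le_add ?_ le_rfl) (h _ hP _ (irreducibleComponent_mem_irreducibleComponents x)).le
    have hsp : ∀ a : closure ({z} : Set (pullback π ι : Scheme.{u})), f z ⤳ f a.1 := fun a =>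
      (specializes_iff_mem_closure.mpr a.2).map f.continuous
    have hin : ∀ a : closure ({z} : Set (pullback π ι : Scheme.{u})),
        f a.1 ∈ irreducibleComponent (f z) ∩ π ⁻¹' Set.range ι := fun a =>
      ⟨(hsp a).mem_closed isClosed_irreducibleComponent mem_irreducibleComponent, hmem _⟩
    let r : closure ({z} : Set (pullback π ι : Scheme.{u})) → irreducibleComponent x := fun a =>
      ⟨⟨f a.1, hin a⟩, (IsInducing.subtypeVal.specializes_iff.mp
        (show (x : C) ⤳ ((⟨f a.1, hin a⟩ : (irreducibleComponent (f z) ∩ π ⁻¹' Set.range ι : Set C)) : C) from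
          hsp a)).mem_closed isClosed_irreducibleComponent mem_irreducibleComponent⟩
    have hr : IsInducing r := IsInducing.of_comp (g := fun y : irreducibleComponent x => (y.1.1 : C))
      (by fun_prop) (by fun_prop) (f.isEmbedding.isInducing.comp IsInducing.subtypeVal :
        IsInducing fun a : closure ({z} : Set (pullback π ι : Scheme.{u})) => f a.1)
    exact hr.topologicalKrullDim_le
  rw [← dim_pullback π ι]
  rcases isEmpty_or_nonempty (pullback π ι : Scheme.{u}) with he | hne
  · simp [dim_eq_bot]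
  rcases Nat.lt_or_ge n c with hlt | hle
  · obtain ⟨z⟩ := hne
    exact ((isEmpty_of_dim_eq_bot (eq_bot_of_add_le hlt (hpt z))).false ⟨z, subset_closure rfl⟩).elim
  exact (add_le_iff hle).mpr (FibDimLib.topologicalKrullDim_le_of_points fun z => (add_le_iff hle).mp (hpt z))

include q in
/-- Second assertion. -/
theorem dim_preimage_le_iff [CompactSpace X] [CompactSpace C] (hι : RegImm.IsRegularImmersionOfCodim κ c ι)
    (hC : ∀ P ∈ irreducibleComponents (C : Type u), topologicalKrullDim P = n)
    (hB : ∀ j : ℕ, IsClosed {x : X | (j : WithBot ℕ∞) ≤ topologicalKrullDim (π.fiber x)}) :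
    (∀ j : ℕ, topologicalKrullDim {x : X | (j : WithBot ℕ∞) ≤ topologicalKrullDim (π.fiber x)} + (j : WithBot ℕ∞) ≤ n) ∧
      (topologicalKrullDim (π ⁻¹' Set.range ι : Set C) + (c : WithBot ℕ∞) ≤ n ↔
        ∀ j : ℕ, topologicalKrullDim (ι ⁻¹' {x : X | (j : WithBot ℕ∞) ≤ topologicalKrullDim (π.fiber x)} : Set W) + (c : WithBot ℕ∞) + (j : WithBot ℕ∞) ≤ n) := by
  haveI : IsImmersion ι := hι.1
  refine ⟨fun j => ?_, ?_⟩
  · have h1 : topologicalKrullDim C ≤ n :=
      FibDimLib.topologicalKrullDim_le_of_generic fun z hz => (hC _ hz).le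
    have h2 := (FibDimLib.topologicalKrullDim_le_iff_jumps k q π n).mp h1 j
    rwa [(hB j).closure_eq] at h2
  haveI : IsLocallyNoetherian X := LocallyOfFiniteType.isLocallyNoetherian q
  haveI : IsNoetherian X := {}
  haveI : NoetherianSpace W := ι.isEmbedding.isInducing.noetherianSpace
  haveI : QuasiCompact π := inferInstance
  haveI : CompactSpace (pullback π ι : Scheme.{u}) :=
    QuasiCompact.compactSpace_of_compactSpace (pullback.snd π ι)
  have hset : ∀ j : ℕ, {w : W | (j : WithBot ℕ∞) ≤ topologicalKrullDim ((pullback.snd π ι).fiber w)} =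
      ι ⁻¹' {x : X | (j : WithBot ℕ∞) ≤ topologicalKrullDim (π.fiber x)} := fun j => by
    ext w
    simp only [Set.mem_setOf_eq, Set.mem_preimage]
    rw [FibDimLib.topologicalKrullDim_fiber_baseChange (IsPullback.of_hasPullback π ι) w]
  have hcl : ∀ j : ℕ, closure {w : W | (j : WithBot ℕ∞) ≤ topologicalKrullDim ((pullback.snd π ι).fiber w)} =
      ι ⁻¹' {x : X | (j : WithBot ℕ∞) ≤ topologicalKrullDim (π.fiber x)} := fun j => by
    rw [hset, ((hB j).preimage ι.continuous).closure_eq]
  have J := fun m => FibDimLib.topologicalKrullDim_le_iff_jumps k (ι ≫ q) (pullback.snd π ι) m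
  rw [← dim_pullback π ι]
  rcases Nat.lt_or_ge n c with hlt | hle
  · constructor
    · intro h j
      haveI := isEmpty_of_dim_eq_bot (eq_bot_of_add_le hlt h)
      rw [← hset]
      have he : IsEmpty {w : W | (j : WithBot ℕ∞) ≤ topologicalKrullDim ((pullback.snd π ι).fiber w)} := by
        refine ⟨fun ⟨w, hw⟩ => ?_⟩
        haveI : IsEmpty ((pullback.snd π ι).fiber w) := Function.isEmpty ((pullback.snd π ι).fiberι w)
        rw [Set.mem_setOf_eq, dim_eq_bot] at hw
        simp at hw
      simp [dim_eq_bot]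
    · intro h
      have h0 := h 0
      rw [Nat.cast_zero, add_zero] at h0
      have he0 := isEmpty_of_dim_eq_bot (eq_bot_of_add_le hlt h0)
      have : IsEmpty (pullback π ι : Scheme.{u}) := by
        refine ⟨fun z => he0.false ⟨pullback.snd π ι z, ?_⟩⟩
        have : pullback.snd π ι z ∈
            {w : W | ((0 : ℕ) : WithBot ℕ∞) ≤ topologicalKrullDim ((pullback.snd π ι).fiber w)} := by
          rw [Set.mem_setOf_eq, Nat.cast_zero]
          haveI : Nonempty ((pullback.snd π ι).fiber (pullback.snd π ι z)) :=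
            ⟨((pullback.snd π ι).fiberHomeo _).symm ⟨z, rfl⟩⟩
          refine not_lt.mp fun hlt => not_isEmpty_of_nonempty _
            (isEmpty_of_dim_eq_bot (A := (pullback.snd π ι).fiber (pullback.snd π ι z)) ?_)
          exact WithBot.lt_coe_bot.mp hlt
        rw [hset 0] at this
        simpa using this
      simp [dim_eq_bot]
  rw [add_le_iff hle, J (n - c)]
  refine forall_congr' fun j => ?_
  rw [hcl j, ← add_le_iff hle, add_right_comm]

end CharCycDimLib
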