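import Groth.Agent.FibDimLib.FibreJumps
import Groth.Agent.CharCycDimLib.Main

/-!
# Dimensions of preimages under maps with constant fibre dimension
-/

set_option autoImplicit false

universe u

open CategoryTheory CategoryTheory.Limits AlgebraicGeometry TopologicalSpace Topology

namespace CharCycDimLib

theorem add_nat_le_add_nat_iff {x y : WithBot ℕ∞} (d : ℕ) :
    x + (d : WithBot ℕ∞) ≤ y + (d : WithBot ℕ∞) ↔ x ≤ y := by
  induction x using WithBot.recBotCoe with
  | bot => simp
  | coe a =>
    induction y using WithBot.recBotCoe with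
    | bot => simp only [WithBot.bot_add, le_bot_iff, WithBot.add_eq_bot, WithBot.natCast_ne_bot, or_false]
    | coe b =>
      show ((a + (d : ℕ∞) : ℕ∞) : WithBot ℕ∞) ≤ ((b + (d : ℕ∞) : ℕ∞) : WithBot ℕ∞) ↔ _
      rw [WithBot.coe_le_coe, WithBot.coe_le_coe, ENat.add_le_add_iff_right (ENat.coe_ne_top d)]

variable (k : Type u) [Field k]

/-- A map with fibres of dimension `d` adds `d` to the dimension. -/
theorem dim_source_eq_add {X' X : Scheme.{u}} (q : X ⟶ Spec (CommRingCat.of k)) [LocallyOfFiniteType q]
    [CompactSpace X] (h : X' ⟶ X) [LocallyOfFiniteType h] (d : ℕ)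
    (hd : ∀ x : X, topologicalKrullDim (h.fiber x) = d) :
    topologicalKrullDim X' = topologicalKrullDim X + (d : WithBot ℕ∞) := by
  refine le_antisymm (FibDimLib.topologicalKrullDim_le_of_points fun c => ?_) ?_
  · rw [FibDimLib.topologicalKrullDim_closure_eq_add q h c]
    exact add_le_add (topologicalKrullDim_subspace_le _ _)
      ((FibDimLib.fibreClosureDim_le_fiber h c).trans (hd _).le)
  · haveI : QuasiCompact q := (quasiCompact_iff_compactSpace q).mpr inferInstance
    rw [add_comm]
    refine FibDimLib.add_le_topologicalKrullDim k q h d fun η _ => ?_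
    rw [← IsHomeomorph.topologicalKrullDim_eq _ (h.fiberHomeo η).isHomeomorph, hd η]

/-- The preimage of a locally closed set under such a map. -/
theorem dim_preimage_eq_add {X' X : Scheme.{u}} (q : X ⟶ Spec (CommRingCat.of k)) [LocallyOfFiniteType q]
    [CompactSpace X] (h : X' ⟶ X) [LocallyOfFiniteType h] (d : ℕ)
    (hd : ∀ x : X, topologicalKrullDim (h.fiber x) = d) {T : Set X} (hT : IsLocallyClosed T) :
    topologicalKrullDim (h ⁻¹' T : Set X') = topologicalKrullDim T + (d : WithBot ℕ∞) := by
  let U : X.Opens := ⟨coborder T, hT.isOpen_coborder⟩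
  let I := Scheme.IdealSheafData.vanishingIdeal
    (⟨U.ι ⁻¹' closure T, isClosed_closure.preimage U.ι.continuous⟩ : Closeds U.toScheme)
  let j : I.subscheme ⟶ X := I.subschemeι ≫ U.ι
  have hj : Set.range j = T := by
    have : Set.range j = U.ι '' Set.range I.subschemeι := by
      rw [← Set.range_comp]; rfl
    rw [this, Scheme.IdealSheafData.range_subschemeι, Scheme.IdealSheafData.coe_support_vanishingIdeal]
    show U.ι '' (U.ι ⁻¹' closure T) = T
    rw [Set.image_preimage_eq_inter_range, Scheme.Opens.range_ι]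
    exact closure_inter_coborder
  haveI : IsLocallyNoetherian X := LocallyOfFiniteType.isLocallyNoetherian q
  haveI : IsNoetherian X := {}
  haveI : IsImmersion j := inferInstance
  haveI : NoetherianSpace I.subscheme := j.isEmbedding.isInducing.noetherianSpace
  have e := dim_source_eq_add k (j ≫ q) (pullback.snd h j) d fun w => by
    rw [FibDimLib.topologicalKrullDim_fiber_baseChange (IsPullback.of_hasPullback h j) w]
    exact hd _
  rw [dim_pullback h j, hj] at e
  rw [e, IsHomeomorph.topologicalKrullDim_eq _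
    (j.isEmbedding.toHomeomorph.trans (Homeomorph.setCongr hj)).isHomeomorph]

/-- The off-diagonal part of the product over the base of two sets. -/
def offDiag {X S : Scheme.{u}} (f : X ⟶ S) (Y Z : Set X) : Set ↥(pullback f f) :=
  {p | pullback.fst f f p ∈ Y ∧ pullback.snd f f p ∈ Z ∧ p ∉ Set.range (pullback.diagonal f)}

theorem isLocallyClosed_offDiag {X S : Scheme.{u}} (f : X ⟶ S) [IsSeparated f] {Y Z : Set X} (hY : IsClosed Y)
    (hZ : IsClosed Z) : IsLocallyClosed (offDiag f Y Z) := by
  haveI : IsClosedImmersion (pullback.diagonal f) := IsSeparated.isClosedImmersion_diagonal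
  have : offDiag f Y Z = (pullback.fst f f ⁻¹' Y ∩ pullback.snd f f ⁻¹' Z) ∩ (Set.range (pullback.diagonal f))ᶜ := by
    ext p; exact (and_assoc).symm
  rw [this]
  exact ((hY.preimage (pullback.fst f f).continuous).inter (hZ.preimage (pullback.snd f f).continuous)).isLocallyClosed.inter
    (pullback.diagonal f).isClosedEmbedding.isClosed_range.isOpen_compl.isLocallyClosed

/-- Well intersection is insensitive to a base change with fibres of constant dimension. -/
theorem wellIntersect_iff_baseChange {X S S' : Scheme.{u}}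
    (q : S ⟶ Spec (CommRingCat.of k)) (f : X ⟶ S) (g : S' ⟶ S)
    [LocallyOfFiniteType q] [CompactSpace S] [LocallyOfFiniteType f] [CompactSpace X] [IsSeparated f]
    [LocallyOfFiniteType g] (d : ℕ) (hd : ∀ s : S, topologicalKrullDim (g.fiber s) = d)
    {Y Z : Set X} (hY : IsClosed Y) (hZ : IsClosed Z) :
    (topologicalKrullDim (offDiag f Y Z) + topologicalKrullDim S ≤ topologicalKrullDim Y + topologicalKrullDim Z) ↔
      (topologicalKrullDim (offDiag (pullback.snd f g) ((pullback.fst f g) ⁻¹' Y) ((pullback.fst f g) ⁻¹' Z)) +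
        topologicalKrullDim S' ≤
        topologicalKrullDim ((pullback.fst f g) ⁻¹' Y) + topologicalKrullDim ((pullback.fst f g) ⁻¹' Z)) := by
  set p₁ := pullback.fst f g with hp₁
  set p₂ := pullback.snd f g with hp₂
  let Φ : pullback p₂ p₂ ⟶ pullback f f :=
    pullback.map p₂ p₂ f f p₁ p₁ g pullback.condition.symm pullback.condition.symm
  have hX : IsPullback p₁ p₂ f g := IsPullback.of_hasPullback f g
  have hΦ : IsPullback Φ (pullback.fst p₂ p₂) (pullback.fst f f) p₁ := by
    have H : IsPullback (pullback.snd p₂ p₂ ≫ p₁) (pullback.fst p₂ p₂) f (p₁ ≫ f) := by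
      have := (IsPullback.of_hasPullback p₂ p₂).flip.paste_horiz hX
      rwa [← pullback.condition] at this
    refine IsPullback.of_right (h₁₂ := pullback.snd f f) (h₂₂ := f) ?_ (pullback.lift_fst _ _ _)
      (IsPullback.of_hasPullback f f).flip
    rw [pullback.lift_snd]
    exact H
  have hΔ : IsPullback p₁ (pullback.diagonal p₂) (pullback.diagonal f) Φ := by
    refine IsPullback.of_bot (h₃₁ := p₁) (v₂₁ := pullback.fst p₂ p₂) (v₂₂ := pullback.fst f f) ?_ ?_ hΦ
    · rw [pullback.diagonal_fst, pullback.diagonal_fst]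
      exact IsPullback.of_vert_isIso ⟨by simp⟩
    · apply pullback.hom_ext
      · rw [Category.assoc, Category.assoc, pullback.diagonal_fst, Category.comp_id, pullback.lift_fst,
          ← Category.assoc, pullback.diagonal_fst, Category.id_comp]
      · rw [Category.assoc, Category.assoc, pullback.diagonal_snd, Category.comp_id, pullback.lift_snd,
          ← Category.assoc, pullback.diagonal_snd, Category.id_comp]
  have hrange : Set.range (pullback.diagonal p₂) = Φ ⁻¹' Set.range (pullback.diagonal f) := by
    rw [← Scheme.Pullback.range_snd]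
    rw [show (pullback.diagonal p₂) = hΔ.isoPullback.hom ≫ pullback.snd (pullback.diagonal f) Φ from
      (IsPullback.isoPullback_hom_snd hΔ).symm]
    show Set.range (pullback.snd (pullback.diagonal f) Φ ∘ hΔ.isoPullback.hom) = _
    rw [Set.range_comp, Set.range_eq_univ.mpr hΔ.isoPullback.hom.surjective, Set.image_univ]
  have e₁ : ∀ p, pullback.fst f f (Φ p) = p₁ (pullback.fst p₂ p₂ p) := fun p => by
    rw [← Scheme.Hom.comp_apply, hΦ.w, Scheme.Hom.comp_apply]
  have e₂ : ∀ p, pullback.snd f f (Φ p) = p₁ (pullback.snd p₂ p₂ p) := fun p => by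
    rw [← Scheme.Hom.comp_apply, pullback.lift_snd, Scheme.Hom.comp_apply]
  have hpre : offDiag p₂ (p₁ ⁻¹' Y) (p₁ ⁻¹' Z) = Φ ⁻¹' offDiag f Y Z := by
    ext p
    simp only [offDiag, Set.mem_setOf_eq, Set.mem_preimage, hrange, e₁, e₂]
  have hp₁d : ∀ x : X, topologicalKrullDim (p₁.fiber x) = d := fun x => by
    rw [FibDimLib.topologicalKrullDim_fiber_baseChange hX.flip x]
    exact hd _
  haveI : LocallyOfFiniteType Φ := MorphismProperty.of_isPullback (P := @LocallyOfFiniteType) hΦ.flip inferInstance
  haveI : CompactSpace ↥(pullback f f) := by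
    haveI : IsLocallyNoetherian S := LocallyOfFiniteType.isLocallyNoetherian q
    haveI : QuasiCompact f := inferInstance
    exact QuasiCompact.compactSpace_of_compactSpace (pullback.fst f f)
  rw [hpre, dim_preimage_eq_add k (pullback.fst f f ≫ f ≫ q) Φ d (fun z => ?_) (isLocallyClosed_offDiag f hY hZ),
    dim_preimage_eq_add k (f ≫ q) p₁ d hp₁d hY.isLocallyClosed,
    dim_preimage_eq_add k (f ≫ q) p₁ d hp₁d hZ.isLocallyClosed,
    dim_source_eq_add k q g d hd, add_add_add_comm, add_add_add_comm (topologicalKrullDim Y) _ (topologicalKrullDim Z),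
    ← Nat.cast_add, add_nat_le_add_nat_iff]
  rw [FibDimLib.topologicalKrullDim_fiber_baseChange hΦ.flip z]
  exact hp₁d _

end CharCycDimLib
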